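import Groth.Agent.Lib.Helper19.SmDesc.Sch
import Groth.Agent.Lib.Helper16.AlgSp.SrcLoc

/-!
# Smoothness is local at the source for the smooth precoverage (helper19)
-/

set_option autoImplicit false
universe u
open CategoryTheory CategoryTheory.Limits AlgebraicGeometry MorphismProperty Opposite

namespace Groth.Agent.Lib.Helper19.SmDesc

/-- a property which descends along smooth surjective morphisms on the source is local at the
source for the smooth precoverage. -/
theorem isLocalAtSource_smoothPrecoverage_of {P : MorphismProperty Scheme.{u}}
    [IsZariskiLocalAtSource P] [P.IsStableUnderComposition]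
    (hle : (@Smooth : MorphismProperty Scheme.{u}) ≤ P)
    (hsrc : ∀ {U' U V : Scheme.{u}} (e : U' ⟶ U) (h : U ⟶ V), Smooth e → Surjective e →
      P (e ≫ h) → P h) :
    P.IsLocalAtSource (Scheme.precoverage @Smooth) where
  comp {X Y f R} hR U g hg hf := P.comp_mem _ _ (hle _ _ _ (hR.2 hg)) hf
  of_forall_comp {X Y f R} hR h := by
    have h1 := (Presieve.mem_comap_jointlySurjectivePrecoverage_iff Scheme.forget).1 hR.1
    choose U g hg hx using h1
    let φ : ∐ (fun x : X => U x) ⟶ X := Sigma.desc g
    haveI : ∀ x, Smooth (g x) := fun x => hR.2 (hg x)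
    haveI : Smooth φ := IsZariskiLocalAtSource.sigmaDesc (fun x => inferInstance)
    haveI : Surjective φ := by
      apply Surjective.sigmaDesc_of_union_range_eq_univ
      rw [Set.eq_univ_iff_forall]
      intro x
      exact Set.mem_iUnion.2 ⟨x, hx x⟩
    refine hsrc φ f inferInstance inferInstance ?_
    have : φ ≫ f = Sigma.desc (fun x => g x ≫ f) := by
      apply Sigma.hom_ext
      intro x
      rw [Sigma.ι_desc, ← Category.assoc, Sigma.ι_desc]
    rw [this]
    exact IsZariskiLocalAtSource.sigmaDesc (P := P) (fun x => h (hg x))

theorem isLocalAtSource_smooth :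
    MorphismProperty.IsLocalAtSource (@Smooth : MorphismProperty Scheme.{u})
      (Scheme.precoverage @Smooth) :=
  isLocalAtSource_smoothPrecoverage_of le_rfl
    (fun e h he hes hc => by
      haveI := he
      haveI := hes
      exact smooth_of_comp_smooth_surjective e h hc)

end Groth.Agent.Lib.Helper19.SmDesc
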