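import Groth.Agent.Lib.Helper16.Alg.EtSm

set_option autoImplicit false
open TensorProduct PrimeSpectrum

universe u

namespace Groth.Agent.Lib.Helper19.SmDesc

theorem exists_smooth_away_of_etale {R A E : Type u} [CommRing R] [CommRing A] [CommRing E]
    [Algebra R A] [Algebra A E] [Algebra R E] [IsScalarTower R A E] [Algebra.Etale A E]
    [Algebra.Smooth R E] (𝔮 : Ideal E) [𝔮.IsPrime] :
    ∃ f : A, f ∉ 𝔮.comap (algebraMap A E) ∧ Algebra.Smooth R (Localization.Away f) := by
  have hopen : IsOpen (Set.range (comap (algebraMap A E))) :=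
    (isOpenMap_comap_of_hasGoingDown_of_finitePresentation (R := A) (S := E)).isOpen_range
  let q : PrimeSpectrum E := ⟨𝔮, inferInstance⟩
  have hmem : comap (algebraMap A E) q ∈ Set.range (comap (algebraMap A E)) := ⟨q, rfl⟩
  obtain ⟨_, ⟨f, rfl⟩, hf1, hf2⟩ :=
    isTopologicalBasis_basic_opens.exists_subset_of_mem_open hmem hopen
  refine ⟨f, hf1, ?_⟩
  let Af := Localization.Away f
  let E' := Af ⊗[A] E
  -- `E'` is faithfully flat over `Af`
  have hff : Module.FaithfullyFlat Af E' := by
    refine Module.FaithfullyFlat.of_comap_surjective (fun p' => ?_)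
    have hp' : comap (algebraMap A Af) p' ∈ (basicOpen f : Set (PrimeSpectrum A)) := by
      change f ∉ (comap (algebraMap A Af) p').asIdeal
      rw [comap_asIdeal, Ideal.mem_comap]
      intro hmem
      exact p'.isPrime.ne_top (Ideal.eq_top_of_isUnit_mem _ hmem
        (IsLocalization.Away.algebraMap_isUnit f))
    obtain ⟨q₀, hq₀⟩ := hf2 hp'
    exact Groth.Agent.Helper16.Alg.exists_prime_tensor p' q₀ hq₀.symm
  -- `E'` is smooth over `R`
  have hsm : Algebra.Smooth R E' := by
    have h1 : Algebra.Smooth E (E ⊗[A] Af) := inferInstance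
    have h2 : Algebra.Smooth R (E ⊗[A] Af) := Algebra.Smooth.comp R E _
    let e : E ⊗[A] Af ≃ₐ[R] Af ⊗[A] E :=
      AlgEquiv.ofRingEquiv (f := (Algebra.TensorProduct.comm A E Af).toRingEquiv) (by
        intro r
        rw [Algebra.TensorProduct.algebraMap_apply, Algebra.TensorProduct.algebraMap_apply]
        change (Algebra.TensorProduct.comm A E Af) (algebraMap R E r ⊗ₜ[A] (1 : Af)) = _
        rw [Algebra.TensorProduct.comm_tmul, IsScalarTower.algebraMap_apply R A E,
          IsScalarTower.algebraMap_apply R A Af, Algebra.algebraMap_eq_smul_one,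
          Algebra.algebraMap_eq_smul_one (A := Af), TensorProduct.smul_tmul])
    exact Algebra.Smooth.of_equiv e
  exact Groth.Agent.Helper16.Alg.smooth_of_etale_faithfullyFlat (R := R) (A := Af) (B := E')

end Groth.Agent.Lib.Helper19.SmDesc
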