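import Groth.Agent.Lib.Helper19.SmDesc.OneVar
import Groth.Agent.Lib.Helper19.SmDesc.EtLoc

set_option autoImplicit false
open Polynomial

universe u

namespace Groth.Agent.Lib.Helper19.SmDesc

theorem isPrime_map_C_mv {σ : Type*} {A : Type*} [CommRing A] (𝔭 : Ideal A) [𝔭.IsPrime] :
    (𝔭.map (MvPolynomial.C : A →+* MvPolynomial σ A)).IsPrime := by
  rw [← Ideal.Quotient.isDomain_iff_prime]
  exact (MvPolynomial.quotientEquivQuotientMvPolynomial (σ := σ) 𝔭).symm.toMulEquiv.isDomain _

/-- transport of a localization along an isomorphism of the base -/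
theorem transport {R B B' L : Type u} [CommRing R] [CommRing B] [CommRing B'] [CommRing L]
    [Algebra R B] [Algebra R B'] [Algebra B L] [Algebra R L] [IsScalarTower R B L]
    (φ : B ≃ₐ[R] B') (h : B) [IsLocalization.Away h L] :
    letI : Algebra B' L := ((algebraMap B L).comp φ.symm.toRingEquiv.toRingHom).toAlgebra
    IsScalarTower R B' L ∧ IsLocalization.Away (φ h) L := by
  let _ : Algebra B' L := ((algebraMap B L).comp φ.symm.toRingEquiv.toRingHom).toAlgebra
  refine ⟨IsScalarTower.of_algebraMap_eq' ?_, ?_⟩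
  · ext r
    change algebraMap R L r = algebraMap B L (φ.symm (algebraMap R B' r))
    rw [AlgEquiv.commutes, ← IsScalarTower.algebraMap_apply]
  · have := IsLocalization.isLocalization_of_base_ringEquiv (Submonoid.powers h) L φ.toRingEquiv
    have hpow : (Submonoid.powers h).map φ.toRingEquiv = Submonoid.powers (φ h) := by
      rw [Submonoid.map_powers]
      rfl
    change IsLocalization (Submonoid.powers (φ h)) L
    rw [← hpow]
    exact this

/-- one variable -/
theorem exists_smooth_away_oneVar {R A : Type u} [CommRing R] [CommRing A] [Algebra R A]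
    (𝔭 : Ideal A) [𝔭.IsPrime] (h : A[X]) (hh : h ∉ 𝔭.map (C : A →+* A[X]))
    (L : Type u) [CommRing L] [Algebra A[X] L] [Algebra R L] [IsScalarTower R A[X] L]
    [IsLocalization.Away h L] [Algebra.Smooth R L] :
    ∃ f : A, f ∉ 𝔭 ∧ Algebra.Smooth R (Localization.Away f) := by
  obtain ⟨P, hg, 𝔔, h𝔔, hcomap⟩ := exists_pair 𝔭 h hh
  let _ : Algebra R P.Ring := ((algebraMap A P.Ring).comp (algebraMap R A)).toAlgebra
  have : IsScalarTower R A P.Ring := IsScalarTower.of_algebraMap_eq' rfl
  let e : L ≃ₐ[A[X]] Localization.Away h := IsLocalization.algEquiv (Submonoid.powers h) L _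
  have h1 : Algebra.Smooth R (Localization.Away h) := Algebra.Smooth.of_equiv (e.restrictScalars R)
  have h2 : Algebra.Smooth R P.Ring := smooth_ring_of_smooth_away P h hg h1
  obtain ⟨f, hf1, hf2⟩ := exists_smooth_away_of_etale (R := R) (A := A) (E := P.Ring) 𝔔
  rw [hcomap] at hf1
  exact ⟨f, hf1, hf2⟩

theorem exists_smooth_away_mv {R A : Type u} [CommRing R] [CommRing A] [Algebra R A]
    (𝔭 : Ideal A) [𝔭.IsPrime] : ∀ (n : ℕ) (h : MvPolynomial (Fin n) A),
    h ∉ 𝔭.map (MvPolynomial.C : A →+* MvPolynomial (Fin n) A) →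
    ∀ (L : Type u) [CommRing L] [Algebra (MvPolynomial (Fin n) A) L] [Algebra R L]
      [IsScalarTower R (MvPolynomial (Fin n) A) L] [IsLocalization.Away h L] [Algebra.Smooth R L],
    ∃ f : A, f ∉ 𝔭 ∧ Algebra.Smooth R (Localization.Away f) := by
  intro n
  induction n with
  | zero =>
    intro h hh L _ _ _ _ _ _
    let φ : MvPolynomial (Fin 0) A ≃ₐ[R] A := (MvPolynomial.isEmptyAlgEquiv A (Fin 0)).restrictScalars R
    obtain ⟨h1, h2⟩ := transport φ h (L := L)
    let _ : Algebra A L := ((algebraMap (MvPolynomial (Fin 0) A) L).comp φ.symm.toRingEquiv.toRingHom).toAlgebra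
    refine ⟨φ h, ?_, ?_⟩
    · intro hmem
      apply hh
      have : h = MvPolynomial.C (φ h) := by
        have h0 := MvPolynomial.eq_C_of_isEmpty h
        have h1 : φ h = MvPolynomial.coeff 0 h := by
          simp [φ]
          first | rfl | congr 1
        rw [h1]
        exact h0
      rw [this]
      exact Ideal.mem_map_of_mem _ hmem
    · let e : L ≃ₐ[A] Localization.Away (φ h) := IsLocalization.algEquiv (Submonoid.powers (φ h)) L _
      exact Algebra.Smooth.of_equiv (e.restrictScalars R)
  | succ n ih =>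
    intro h hh L _ _ _ _ _ _
    let An := MvPolynomial (Fin n) A
    let φ : MvPolynomial (Fin (n + 1)) A ≃ₐ[R] An[X] := (MvPolynomial.finSuccEquiv A n).restrictScalars R
    obtain ⟨h1, h2⟩ := transport φ h (L := L)
    let _ : Algebra An[X] L := ((algebraMap (MvPolynomial (Fin (n + 1)) A) L).comp φ.symm.toRingEquiv.toRingHom).toAlgebra
    have := isPrime_map_C_mv (σ := Fin n) 𝔭
    have hh' : φ h ∉ (𝔭.map (MvPolynomial.C : A →+* An)).map (C : An →+* An[X]) := by
      intro hmem
      apply hh
      rw [MvPolynomial.mem_map_C_iff]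
      intro m
      rw [Ideal.mem_map_C_iff] at hmem
      have := hmem (m 0)
      rw [MvPolynomial.mem_map_C_iff] at this
      have h3 := this (Finsupp.tail m)
      change MvPolynomial.coeff (Finsupp.tail m) (Polynomial.coeff (MvPolynomial.finSuccEquiv A n h) (m 0)) ∈ 𝔭 at h3
      rw [MvPolynomial.finSuccEquiv_coeff_coeff, Finsupp.cons_tail] at h3
      exact h3
    obtain ⟨f', hf'1, hf'2⟩ := exists_smooth_away_oneVar (R := R) (A := An)
      (𝔭.map (MvPolynomial.C : A →+* An)) (φ h) hh' L
    exact ih f' hf'1 (Localization.Away f')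

end Groth.Agent.Lib.Helper19.SmDesc
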