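import Groth.Agent.Lib.Helper19.SmDesc.Claim

set_option autoImplicit false

universe u

namespace Groth.Agent.Lib.Helper19.SmDesc

theorem exists_smooth_away_of_smooth {R A B : Type u} [CommRing R] [CommRing A] [CommRing B]
    [Algebra R A] [Algebra A B] [Algebra R B] [IsScalarTower R A B] [Algebra.Smooth A B]
    [Algebra.Smooth R B] (𝔮 : Ideal B) [𝔮.IsPrime] :
    ∃ f : A, f ∉ 𝔮.comap (algebraMap A B) ∧ Algebra.Smooth R (Localization.Away f) := by
  obtain ⟨b, hb, n, alg, htower, hstd⟩ :=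
    Algebra.IsSmoothAt.exists_isStandardEtale_mvPolynomial (R := A) (S := B) (p := 𝔮)
  let Pn := MvPolynomial (Fin n) A
  let Bb := Localization.Away b
  have hRtower : IsScalarTower R Pn Bb := by
    refine IsScalarTower.of_algebraMap_eq' ?_
    ext r
    change algebraMap R Bb r = algebraMap Pn Bb (algebraMap R Pn r)
    rw [IsScalarTower.algebraMap_apply R A Pn, ← IsScalarTower.algebraMap_apply A Pn Bb,
      ← IsScalarTower.algebraMap_apply R A Bb]
  have hsmB : Algebra.Smooth B Bb := inferInstance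
  have hsm : Algebra.Smooth R Bb := Algebra.Smooth.comp R B Bb
  have hprime : (𝔮.map (algebraMap B Bb)).IsPrime :=
    IsLocalization.isPrime_of_isPrime_disjoint (.powers b) _ _ ‹_›
      ((Ideal.disjoint_powers_iff_notMem_of_isPrime _).mpr hb)
  obtain ⟨h, hh1, hh2⟩ := exists_smooth_away_of_etale (R := R) (A := Pn) (E := Bb)
    (𝔮.map (algebraMap B Bb))
  have hh : h ∉ (𝔮.comap (algebraMap A B)).map (MvPolynomial.C : A →+* Pn) := by
    intro hmem
    apply hh1
    have hle : (𝔮.comap (algebraMap A B)).map (MvPolynomial.C : A →+* Pn) ≤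
        (𝔮.map (algebraMap B Bb)).comap (algebraMap Pn Bb) := ?_
    · exact hle hmem
    rw [Ideal.map_le_iff_le_comap]
    intro a ha
    rw [Ideal.mem_comap, Ideal.mem_comap]
    have : algebraMap Pn Bb (MvPolynomial.C a) = algebraMap B Bb (algebraMap A B a) := by
      rw [← MvPolynomial.algebraMap_eq, ← IsScalarTower.algebraMap_apply A Pn Bb,
        ← IsScalarTower.algebraMap_apply A B Bb]
    rw [this]
    exact Ideal.mem_map_of_mem _ ha
  exact exists_smooth_away_mv (𝔮.comap (algebraMap A B)) n h hh (Localization.Away h)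

theorem smooth_of_smooth_of_surjective {R A B : Type u} [CommRing R] [CommRing A] [CommRing B]
    [Algebra R A] [Algebra A B] [Algebra R B] [IsScalarTower R A B] [Algebra.Smooth A B]
    [Algebra.Smooth R B]
    (hsurj : Function.Surjective (PrimeSpectrum.comap (algebraMap A B))) : Algebra.Smooth R A := by
  have key : ∀ 𝔭 : PrimeSpectrum A, ∃ f : A, f ∉ 𝔭.asIdeal ∧ Algebra.Smooth R (Localization.Away f) := by
    intro 𝔭
    obtain ⟨𝔮, rfl⟩ := hsurj 𝔭
    exact exists_smooth_away_of_smooth (R := R) (A := A) (B := B) 𝔮.asIdeal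
  choose f hf1 hf2 using key
  have hspan : Ideal.span (Set.range f) = ⊤ := by
    by_contra hne
    obtain ⟨𝔪, h𝔪, hle⟩ := Ideal.exists_le_maximal _ hne
    exact hf1 ⟨𝔪, h𝔪.isPrime⟩ (hle (Ideal.subset_span ⟨_, rfl⟩))
  rw [← RingHom.smooth_algebraMap]
  refine RingHom.Smooth.ofLocalizationSpanTarget (algebraMap R A) _ hspan ?_
  rintro ⟨_, 𝔭, rfl⟩
  rw [← IsScalarTower.algebraMap_eq, RingHom.smooth_algebraMap]
  exact hf2 𝔭

end Groth.Agent.Lib.Helper19.SmDesc
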