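import Mathlib

/-!
# A standard étale neighbourhood avoiding a hypersurface (helper19)

Given a prime `𝔭` of `A` and a polynomial `h ∈ A[X]` with some coefficient outside `𝔭`, we construct a
standard étale pair `(f, g = f' h)` over `A` whose standard étale algebra has a prime lying over `𝔭`.
-/

set_option autoImplicit false
open Polynomial IntermediateField

universe u

namespace Groth.Agent.Lib.Helper19.SmDesc

theorem ff_pow {k L : Type*} [Field k] [Fintype k] [Field L] [Algebra k L] (x : L) (p : k[X])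
    (hp0 : p ≠ 0) (hp : aeval x p = 0) (N : ℕ)
    (hN : ∀ j, 1 ≤ j → j ≤ p.natDegree → j ∣ N) : x ^ (Fintype.card k ^ N) = x := by
  have hx : IsIntegral k x := (isAlgebraic_iff_isIntegral).1 ⟨p, hp0, hp⟩
  have hfin : Module.finrank k k⟮x⟯ = (minpoly k x).natDegree := adjoin.finrank hx
  have hj1 : 1 ≤ (minpoly k x).natDegree := minpoly.natDegree_pos hx
  have hj2 : (minpoly k x).natDegree ≤ p.natDegree :=
    Polynomial.natDegree_le_natDegree (minpoly.degree_le_of_ne_zero k x hp0 hp)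
  obtain ⟨m, hm⟩ := hN _ hj1 hj2
  have : FiniteDimensional k k⟮x⟯ := adjoin.finiteDimensional hx
  have : Finite k⟮x⟯ := Module.finite_of_finite k
  let _ : Fintype k⟮x⟯ := Fintype.ofFinite _
  have hcard : Fintype.card k⟮x⟯ = Fintype.card k ^ (minpoly k x).natDegree := by
    rw [Module.card_eq_pow_finrank (K := k) (V := k⟮x⟯), hfin]
  have := FiniteField.pow_card_pow m (AdjoinSimple.gen k x)
  rw [hcard, ← pow_mul, ← hm] at this
  have h2 := congrArg (fun y : k⟮x⟯ => (y : L)) this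
  simpa using h2

theorem exists_prime_of_hasMap {A : Type u} [CommRing A] (𝔭 : Ideal A) {L : Type u} [Field L]
    [Algebra A L] (hker : RingHom.ker (algebraMap A L) = 𝔭) (P : StandardEtalePair A) (x : L)
    (hx : P.HasMap x) :
    ∃ 𝔔 : Ideal P.Ring, 𝔔.IsPrime ∧ 𝔔.comap (algebraMap A P.Ring) = 𝔭 := by
  refine ⟨RingHom.ker (P.lift x hx), RingHom.ker_isPrime _, ?_⟩
  rw [← hker]
  ext a
  rw [Ideal.mem_comap, RingHom.mem_ker, RingHom.mem_ker, AlgHom.commutes]

/-- infinite residue field case -/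
theorem exists_pair_infinite {A : Type u} [CommRing A] (𝔭 : Ideal A) [𝔭.IsPrime] (h : A[X])
    (hh : h ∉ 𝔭.map (C : A →+* A[X])) (hinf : Infinite (A ⧸ 𝔭)) :
    ∃ P : StandardEtalePair A, P.g = derivative P.f * h ∧
      ∃ 𝔔 : Ideal P.Ring, 𝔔.IsPrime ∧ 𝔔.comap (algebraMap A P.Ring) = 𝔭 := by
  have hbar : h.map (Ideal.Quotient.mk 𝔭) ≠ 0 := by
    intro h0
    apply hh
    rw [Ideal.mem_map_C_iff]
    intro n
    have := congrArg (fun p => p.coeff n) h0
    simpa [Ideal.Quotient.eq_zero_iff_mem] using this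
  obtain ⟨cbar, hc⟩ : ∃ c : A ⧸ 𝔭, (h.map (Ideal.Quotient.mk 𝔭)).eval c ≠ 0 := by
    by_contra hcon
    push Not at hcon
    exact hbar (Polynomial.funext (fun c => by rw [hcon c, eval_zero]))
  obtain ⟨c, rfl⟩ := Ideal.Quotient.mk_surjective cbar
  let P : StandardEtalePair A :=
    { f := X - C c
      monic_f := monic_X_sub_C c
      g := derivative (X - C c) * h
      cond := ⟨h, 0, 1, by simp⟩ }
  refine ⟨P, rfl, ?_⟩
  let L := FractionRing (A ⧸ 𝔭)
  have hker : RingHom.ker (algebraMap A L) = 𝔭 := by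
    ext a
    rw [RingHom.mem_ker, IsScalarTower.algebraMap_apply A (A ⧸ 𝔭) L,
      (IsFractionRing.injective (A ⧸ 𝔭) L).eq_iff' (map_zero _), Ideal.Quotient.algebraMap_eq,
      Ideal.Quotient.eq_zero_iff_mem]
  refine exists_prime_of_hasMap 𝔭 hker P (algebraMap A L c) ⟨?_, ?_⟩
  · change aeval (algebraMap A L c) (X - C c) = 0
    simp
  · change IsUnit (aeval (algebraMap A L c) (derivative (X - C c) * h))
    rw [isUnit_iff_ne_zero]
    have : aeval (algebraMap A L c) (derivative (X - C c) * h) =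
        algebraMap (A ⧸ 𝔭) L ((h.map (Ideal.Quotient.mk 𝔭)).eval (Ideal.Quotient.mk 𝔭 c)) := by
      simp only [derivative_sub, derivative_X, derivative_C, sub_zero, one_mul]
      rw [aeval_algebraMap_apply, IsScalarTower.algebraMap_apply A (A ⧸ 𝔭) L]
      congr 1
      rw [eval_map, aeval_def, Ideal.Quotient.algebraMap_eq]
      exact (Polynomial.hom_eval₂ _ _ _ _)
    rw [this]
    exact fun h0 => hc ((IsFractionRing.injective (A ⧸ 𝔭) L).eq_iff' (map_zero _) |>.1 h0)

/-- finite residue field case -/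
theorem exists_pair_finite {A : Type u} [CommRing A] (𝔭 : Ideal A) [𝔭.IsPrime] (h : A[X])
    (hh : h ∉ 𝔭.map (C : A →+* A[X])) (hfin : Finite (A ⧸ 𝔭)) :
    ∃ P : StandardEtalePair A, P.g = derivative P.f * h ∧
      ∃ 𝔔 : Ideal P.Ring, 𝔔.IsPrime ∧ 𝔔.comap (algebraMap A P.Ring) = 𝔭 := by
  have hbar : h.map (Ideal.Quotient.mk 𝔭) ≠ 0 := by
    intro h0
    apply hh
    rw [Ideal.mem_map_C_iff]
    intro n
    have := congrArg (fun p => p.coeff n) h0
    simpa [Ideal.Quotient.eq_zero_iff_mem] using this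
  haveI : 𝔭.IsMaximal := Ideal.Quotient.maximal_of_isField _ (Finite.isField_of_domain (A ⧸ 𝔭))
  letI : Field (A ⧸ 𝔭) := Ideal.Quotient.field 𝔭
  letI : Fintype (A ⧸ 𝔭) := Fintype.ofFinite _
  set q := Fintype.card (A ⧸ 𝔭) with hq
  have hq2 : 2 ≤ q := Fintype.one_lt_card
  set N := (h.map (Ideal.Quotient.mk 𝔭)).natDegree.factorial with hN
  have hN1 : 1 ≤ N := Nat.factorial_pos _
  have hn2 : 2 ≤ q ^ N := le_trans hq2 (Nat.le_self_pow (by omega) q)
  haveI : Nontrivial A := ⟨⟨0, 1, fun h01 => (Ideal.IsPrime.ne_top ‹𝔭.IsPrime›)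
    ((Ideal.eq_top_iff_one 𝔭).2 (h01 ▸ 𝔭.zero_mem))⟩⟩
  let P : StandardEtalePair A :=
    { f := X ^ (q ^ N) + (C (-1) * X + C 1)
      monic_f := monic_X_pow_add (lt_of_le_of_lt (degree_linear_le) (by exact_mod_cast hn2))
      g := derivative (X ^ (q ^ N) + (C (-1) * X + C 1)) * h
      cond := ⟨h, 0, 1, by simp⟩ }
  refine ⟨P, rfl, ?_⟩
  let L := AlgebraicClosure (A ⧸ 𝔭)
  have hker : RingHom.ker (algebraMap A L) = 𝔭 := by
    ext a
    rw [RingHom.mem_ker, IsScalarTower.algebraMap_apply A (A ⧸ 𝔭) L,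
      (algebraMap (A ⧸ 𝔭) L).injective.eq_iff' (map_zero _), Ideal.Quotient.algebraMap_eq,
      Ideal.Quotient.eq_zero_iff_mem]
  have hqL : ((q : ℕ) : L) = 0 := by
    rw [← map_natCast (algebraMap (A ⧸ 𝔭) L), hq, FiniteField.cast_card_eq_zero, map_zero]
  -- a root of `f` in `L`
  have hdeg : (P.f.map (algebraMap A L)).degree ≠ 0 := by
    rw [P.monic_f.degree_map]
    change (X ^ (q ^ N) + (C (-1) * X + C 1) : A[X]).degree ≠ 0
    rw [degree_add_eq_left_of_degree_lt (by
      rw [degree_X_pow]; exact lt_of_le_of_lt (degree_linear_le) (by exact_mod_cast hn2)),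
      degree_X_pow]
    exact_mod_cast (by omega : q ^ N ≠ 0)
  obtain ⟨x, hx⟩ := IsAlgClosed.exists_root _ hdeg
  have hx' : aeval x P.f = 0 := by
    rw [IsRoot.def, eval_map_algebraMap] at hx
    exact hx
  have hfx : aeval x P.f = x ^ (q ^ N) - x + 1 := by
    change aeval x (X ^ (q ^ N) + (C (-1) * X + C 1) : A[X]) = _
    simp
    ring
  refine exists_prime_of_hasMap 𝔭 hker P x ⟨hx', ?_⟩
  change IsUnit (aeval x (derivative (X ^ (q ^ N) + (C (-1) * X + C 1) : A[X]) * h))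
  rw [isUnit_iff_ne_zero]
  have hder : aeval x (derivative (X ^ (q ^ N) + (C (-1) * X + C 1) : A[X])) = -1 := by
    simp only [derivative_add, derivative_X_pow, derivative_mul, derivative_C, derivative_X,
      zero_mul, mul_one, zero_add, add_zero, map_add, map_mul, aeval_C, map_pow, aeval_X, map_natCast,
      Nat.cast_pow, hqL, zero_pow (by omega : N ≠ 0), map_neg, map_one]
    simp
  rw [map_mul, hder]
  intro h0
  have h1 : aeval x h = 0 := by simpa using h0
  have h2 : aeval x (h.map (Ideal.Quotient.mk 𝔭)) = 0 := by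
    rw [← Ideal.Quotient.algebraMap_eq, aeval_map_algebraMap]
    exact h1
  have h3 := ff_pow x _ hbar h2 N (fun j hj1 hj2 => Nat.dvd_factorial (by omega) hj2)
  rw [hfx] at hx'
  rw [hq, h3] at hx'
  simp at hx'


theorem exists_pair {A : Type u} [CommRing A] (𝔭 : Ideal A) [𝔭.IsPrime] (h : A[X])
    (hh : h ∉ 𝔭.map (C : A →+* A[X])) :
    ∃ P : StandardEtalePair A, P.g = derivative P.f * h ∧
      ∃ 𝔔 : Ideal P.Ring, 𝔔.IsPrime ∧ 𝔔.comap (algebraMap A P.Ring) = 𝔭 := by
  rcases finite_or_infinite (A ⧸ 𝔭) with hfin | hinf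
  · exact exists_pair_finite 𝔭 h hh hfin
  · exact exists_pair_infinite 𝔭 h hh hinf

end Groth.Agent.Lib.Helper19.SmDesc
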