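import Groth.Agent.Lib.Helper19.SmDesc.Retract
import Groth.Agent.Lib.Helper19.SmDesc.StdPair

set_option autoImplicit false
open Polynomial

universe u

namespace Groth.Agent.Lib.Helper19.SmDesc

theorem smooth_ring_of_smooth_away {R A : Type u} [CommRing R] [CommRing A] [Algebra R A]
    (P : StandardEtalePair A) (h : A[X]) (hg : P.g = derivative P.f * h)
    [Algebra R P.Ring] [IsScalarTower R A P.Ring]
    (hsm : Algebra.Smooth R (Localization.Away h)) : Algebra.Smooth R P.Ring := by
  let Bh := Localization.Away h
  let T := Localization.Away (algebraMap A[X] Bh (derivative P.f))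
  have : IsLocalization.Away (derivative P.f * h) T :=
    IsLocalization.Away.mul Bh T h (derivative P.f)
  have : IsLocalization.Away P.g T := by rw [hg]; infer_instance
  have : Algebra.Smooth Bh T := inferInstance
  have : Algebra.Smooth R T := Algebra.Smooth.comp R Bh T
  let e : T ≃ₐ[A[X]] Localization.Away P.g := IsLocalization.algEquiv (Submonoid.powers P.g) T _
  have : Algebra.Smooth R (Localization.Away P.g) := Algebra.Smooth.of_equiv (e.restrictScalars R)
  have : Algebra.FinitePresentation A (Localization.Away P.g) :=
    Algebra.FinitePresentation.trans A A[X] _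
  let π : Localization.Away P.g →ₐ[A] P.Ring :=
    P.equivAwayQuotient.symm.toAlgHom.comp (Ideal.Quotient.mkₐ A _)
  refine smooth_of_surjective π ?_
  exact P.equivAwayQuotient.symm.surjective.comp (Ideal.Quotient.mkₐ_surjective A _)

end Groth.Agent.Lib.Helper19.SmDesc
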