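import Mathlib

/-!
# Smoothness passes to formally étale quotients over an intermediate ring (helper19)

Let `R → A → B` with `R → B` smooth and `B` finitely presented over `A`, and let `π : B → E` be a surjective
`A`-algebra map onto an étale `A`-algebra. Then `R → E` is smooth.
-/

set_option autoImplicit false

universe u

namespace Groth.Agent.Lib.Helper19.SmDesc

variable {R A B E : Type u} [CommRing R] [CommRing A] [CommRing B] [CommRing E]
  [Algebra R A] [Algebra A B] [Algebra R B] [IsScalarTower R A B]
  [Algebra A E] [Algebra R E] [IsScalarTower R A E]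

theorem formallySmooth_of_surjective [Algebra.FormallySmooth R B] [Algebra.FormallySmooth A E]
    (π : B →ₐ[A] E) (hπ : Function.Surjective π) : Algebra.FormallySmooth R E := by
  have hnil : IsNilpotent (RingHom.ker (π.kerSquareLift : B ⧸ RingHom.ker π.toRingHom ^ 2 →+* E)) := by
    refine ⟨2, ?_⟩
    have := AlgHom.ker_kerSquareLift π
    rw [show RingHom.ker (π.kerSquareLift : B ⧸ RingHom.ker π.toRingHom ^ 2 →+* E) =
      RingHom.ker π.kerSquareLift.toRingHom from rfl, this, Ideal.cotangentIdeal_square]
    rfl
  have hsurj : Function.Surjective π.kerSquareLift := by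
    intro e
    obtain ⟨b, rfl⟩ := hπ e
    exact ⟨Ideal.Quotient.mk _ b, AlgHom.kerSquareLift_mk π b⟩
  let g₀ : E →ₐ[A] B ⧸ RingHom.ker π.toRingHom ^ 2 :=
    Algebra.FormallySmooth.liftOfSurjective (AlgHom.id A E) π.kerSquareLift hsurj hnil
  have hg₀ : π.kerSquareLift.comp g₀ = AlgHom.id A E :=
    Algebra.FormallySmooth.comp_liftOfSurjective _ _ hsurj hnil
  refine Algebra.FormallySmooth.of_split (π.restrictScalars R) (g₀.restrictScalars R) ?_
  ext e
  have := congrArg (fun k => k e) hg₀
  exact this

theorem smooth_of_surjective [Algebra.Smooth R B] [Algebra.FinitePresentation A B] [Algebra.Etale A E]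
    (π : B →ₐ[A] E) (hπ : Function.Surjective π) : Algebra.Smooth R E := by
  have hfs : Algebra.FormallySmooth R E := formallySmooth_of_surjective π hπ
  have hker : (RingHom.ker π.toRingHom).FG := Algebra.FinitePresentation.ker_fG_of_surjective π hπ
  have hfp : Algebra.FinitePresentation R E :=
    Algebra.FinitePresentation.of_surjective (f := π.restrictScalars R) hπ hker
  exact ⟨hfs, hfp⟩

end Groth.Agent.Lib.Helper19.SmDesc
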